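import Groth.Agent.SepFam.Mor
import Groth.Agent.InjFibre.Stalk
import Groth.Prelude.Def_CInt

/-!
# Opens whose complement has depth at least one
-/

universe u

set_option autoImplicit false
set_option linter.style.haveILetI false
set_option backward.isDefEq.respectTransparency false

open CategoryTheory AlgebraicGeometry TopologicalSpace Opposite

namespace Groth.Agent.SectExtU

open Groth.Agent.QC

/-- At a minimal prime of `D`, the maximal ideal of the local ring is the radical of `D`. -/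
theorem exists_pow_mem_map {B : Type u} [CommRing B] {D Q : Ideal B} [Q.IsPrime] (hQ : Q ∈ D.minimalPrimes)
    (R : Type u) [CommRing R] [Algebra B R] [IsLocalization.AtPrime R Q] [IsLocalRing R] {a : R}
    (ha : a ∈ IsLocalRing.maximalIdeal R) : ∃ n : ℕ, a ^ n ∈ D.map (algebraMap B R) := by
  change a ∈ (D.map (algebraMap B R)).radical
  rw [Ideal.radical_eq_sInf]
  refine Ideal.mem_sInf.2 fun {P} ⟨hP, hPp⟩ => ?_
  obtain ⟨b, c, rfl⟩ := IsLocalization.exists_mk'_eq Q.primeCompl a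
  have hb : b ∈ Q := (IsLocalization.AtPrime.mk'_mem_maximal_iff R Q b c).1 ha
  have hle : P.comap (algebraMap B R) ≤ Q := by
    intro x hx
    by_contra hxQ
    exact hPp.ne_top (P.eq_top_of_isUnit_mem hx (IsLocalization.map_units R (⟨x, hxQ⟩ : Q.primeCompl)))
  haveI := hPp
  exact IsLocalization.mk'_mem_iff.2 (hQ.2 ⟨Ideal.IsPrime.comap _, Ideal.map_le_iff_le_comap.1 hP⟩ hle hb)

/-- **Restriction to an open is injective if its complement has depth at least one.** -/
theorem eq_zero_of_regular {X : Scheme.{u}} {U : X.Opens}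
    (hZ : ∀ z : X, z ∉ U → ∃ a ∈ IsLocalRing.maximalIdeal (X.presheaf.stalk z), IsSMulRegular (X.presheaf.stalk z) a)
    {W : X.Opens} (s : Γ(X, W)) (hs : resO X (inf_le_left : W ⊓ U ≤ W) s = 0) : s = 0 := by
  refine SepFam.eq_zero_of_cover s fun x hx => ?_
  obtain ⟨V, hV, hxV, hVW⟩ := exists_isAffineOpen_mem_and_subset (X := X) (x := x) (U := W) hx
  refine ⟨V, hVW, hxV, ?_⟩
  let σ := resO X hVW s
  change σ = 0
  have hσ : resO X (inf_le_left : V ⊓ U ≤ V) σ = 0 := by
    rw [resO_resO _ hVW, ← resO_resO (inf_le_inf_right U hVW) inf_le_left, hs, map_zero]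
  by_contra hne
  let D : Ideal Γ(X, V) := LinearMap.ker (LinearMap.toSpanSingleton Γ(X, V) Γ(X, V) σ)
  have hD : D ≠ ⊤ := fun h => hne (by
    have h1 : (1 : Γ(X, V)) ∈ D := h ▸ Submodule.mem_top
    simpa [D] using h1)
  obtain ⟨m, hm, hDm⟩ := Ideal.exists_le_maximal D hD
  haveI := hm.isPrime
  obtain ⟨Q, hQ, -⟩ := Ideal.exists_minimalPrimes_le hDm
  haveI := hQ.1.1
  obtain ⟨hzV, hzQ⟩ := InjFibre.primeIdealOf_fromSpec hV ⟨Q, hQ.1.1⟩
  let z := hV.fromSpec ⟨Q, hQ.1.1⟩
  letI := TopCat.Presheaf.algebra_section_stalk X.presheaf (⟨z, hzV⟩ : V)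
  haveI : IsLocalization.AtPrime (X.presheaf.stalk z) Q := by
    have := hV.isLocalization_stalk ⟨z, hzV⟩
    rwa [hzQ] at this
  have hne' : algebraMap Γ(X, V) (X.presheaf.stalk z) σ ≠ 0 := fun h => by
    obtain ⟨⟨c, hc⟩, hcσ⟩ := (IsLocalization.map_eq_zero_iff Q.primeCompl _ _).1 h
    exact hc (hQ.1.2 hcσ)
  have hzU : z ∉ U := fun hzU => hne' (by
    have h1 := X.presheaf.germ_res_apply (homOfLE (inf_le_left : V ⊓ U ≤ V)) z ⟨hzV, hzU⟩ σ
    rw [show X.presheaf.map (homOfLE (inf_le_left : V ⊓ U ≤ V)).op σ = 0 from hσ, map_zero] at h1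
    exact h1.symm)
  obtain ⟨a, ha, hreg⟩ := hZ z hzU
  obtain ⟨n, hn⟩ := exists_pow_mem_map hQ _ ha
  have h0 : D.map (algebraMap Γ(X, V) (X.presheaf.stalk z)) ≤
      LinearMap.ker (LinearMap.toSpanSingleton (X.presheaf.stalk z) (X.presheaf.stalk z) (algebraMap Γ(X, V) _ σ)) :=
    Ideal.map_le_iff_le_comap.2 fun b hb => by
      change algebraMap Γ(X, V) (X.presheaf.stalk z) b * algebraMap Γ(X, V) _ σ = 0
      rw [← map_mul, show b * σ = 0 from hb, map_zero]
  have h1 : a ^ n • algebraMap Γ(X, V) (X.presheaf.stalk z) σ = 0 := h0 hn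
  exact hne' ((hreg.pow n).right_eq_zero_of_smul h1)

/-- Schematic density of the open, as a property of its inclusion. -/
theorem ker_ι_eq_bot {X : Scheme.{u}} {U : X.Opens} [QuasiCompact U.ι]
    (h : CInt.IsSchematicallyDense U) : U.ι.ker = ⊥ := by
  refine Scheme.IdealSheafData.ext (funext fun W => ?_)
  rw [Scheme.Hom.ker_apply, Scheme.IdealSheafData.ideal_bot, Pi.bot_apply, eq_bot_iff]
  intro s hs
  refine Ideal.mem_bot.2 (h W.1 ?_)
  rw [map_zero]
  have h1 : U.ι.app W.1 s = 0 := hs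
  have h2 := congrArg (resO X (show W.1 ⊓ U ≤ U.ι ''ᵁ (U.ι ⁻¹ᵁ W.1) from
    fun y hy => ⟨⟨y, hy.2⟩, hy.1, rfl⟩)) h1
  rw [map_zero] at h2
  refine Eq.trans ?_ h2
  exact (resO_resO _ _ _).symm

/-- Depth at least one outside gives schematic density. -/
theorem isSchematicallyDense_of_regular {X : Scheme.{u}} {U : X.Opens}
    (hZ : ∀ z : X, z ∉ U → ∃ a ∈ IsLocalRing.maximalIdeal (X.presheaf.stalk z), IsSMulRegular (X.presheaf.stalk z) a) :
    CInt.IsSchematicallyDense U := fun _ =>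
  (injective_iff_map_eq_zero _).2 fun s hs => eq_zero_of_regular hZ s hs

/-- A morphism with trivial kernel which is the inclusion of an open is schematically dense. -/
theorem isSchematicallyDense_of_ι {X : Scheme.{u}} {U : X.Opens} [IsSchemeTheoreticallyDominant U.ι]
    [QuasiCompact U.ι] : CInt.IsSchematicallyDense U := fun V => by
  refine (injective_iff_map_eq_zero _).2 fun s hs => U.ι.app_injective V ?_
  rw [map_zero]
  have h2 := congrArg (resO X (show U.ι ''ᵁ (U.ι ⁻¹ᵁ V) ≤ V ⊓ U from by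
    rintro _ ⟨y, hy, rfl⟩; exact ⟨hy, y.2⟩)) hs
  rw [map_zero] at h2
  refine Eq.trans ?_ h2
  exact (resO_resO _ _ _).symm

/-- Agreement on a schematically dense open. -/
theorem ext_of_dense {X Y S : Scheme.{u}} {U : X.Opens} [QuasiCompact U.ι] (hU : CInt.IsSchematicallyDense U)
    (f : Y ⟶ S) [IsSeparated f] {s₁ s₂ : X ⟶ Y} (h : s₁ ≫ f = s₂ ≫ f) (h' : U.ι ≫ s₁ = U.ι ≫ s₂) : s₁ = s₂ := by
  let c := Limits.pullback.lift s₁ s₂ h
  let d := Limits.pullback.diagonal f
  let e := Limits.pullback.snd d c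
  let l : (U : Scheme.{u}) ⟶ Limits.pullback d c := Limits.pullback.lift (U.ι ≫ s₁) U.ι (by
    apply Limits.pullback.hom_ext
    · simp [d, c]
    · simp [d, c, h'])
  have hle : e.ker = ⊥ := by
    refine le_bot_iff.1 ?_
    rw [← ker_ι_eq_bot hU, ← show l ≫ e = U.ι from Limits.pullback.lift_snd _ _ _]
    exact Scheme.Hom.le_ker_comp l e
  haveI : IsIso e := IsClosedImmersion.isIso_iff_ker_eq_bot.2 hle
  refine (cancel_epi e).1 ?_
  have hc := Limits.pullback.condition (f := d) (g := c)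
  have h1 := congrArg (· ≫ Limits.pullback.fst f f) hc
  have h2 := congrArg (· ≫ Limits.pullback.snd f f) hc
  simp only [Category.assoc, d, c, e, Limits.pullback.diagonal_fst, Limits.pullback.diagonal_snd, Limits.pullback.lift_fst,
    Limits.pullback.lift_snd, Category.comp_id] at h1 h2
  exact h1.symm.trans h2

end Groth.Agent.SectExtU
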