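import Groth.Agent.SectExtU.Dense

/-!
# Functions extend across a closed subset of depth at least two
-/

universe u

set_option autoImplicit false
set_option linter.style.haveILetI false
set_option backward.isDefEq.respectTransparency false

open CategoryTheory AlgebraicGeometry TopologicalSpace Opposite

namespace Groth.Agent.SectExtU

open Groth.Agent.QC

/-- A regular pair of powers. -/
theorem dvd_of_pow_pair {R : Type u} [CommRing R] {a b : R} (ha : IsSMulRegular R a)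
    (hb : ∀ x y : R, a * x = b * y → a ∣ y) :
    ∀ (n m : ℕ) (x y : R), a ^ n * x = b ^ m * y → a ^ n ∣ y := by
  have h1 : ∀ (n : ℕ) (x y : R), a ^ n * x = b * y → a ^ n ∣ y := by
    intro n
    induction n with
    | zero => intro x y _; simp
    | succ n ih =>
      intro x y h
      obtain ⟨y', rfl⟩ := hb (a ^ n * x) y (by rw [← h, pow_succ']; ring)
      obtain ⟨w, rfl⟩ := ih x y' (ha (show a • (a ^ n * x) = a • (b * y') by
        simp only [smul_eq_mul]; linear_combination h))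
      exact ⟨w, by ring⟩
  intro n m
  induction m with
  | zero => intro x y h; exact ⟨x, by rw [h]; simp⟩
  | succ m ih =>
    intro x y h
    obtain ⟨w, hw⟩ := h1 n x (b ^ m * y) (by rw [h, pow_succ']; ring)
    exact ih w y hw.symm

/-- **Sections extend across a closed subset of depth at least two.** -/
theorem exists_extend_section {X : Scheme.{u}} {U : X.Opens}
    (hZ : ∀ z : X, z ∉ U → ∃ a b : X.presheaf.stalk z, a ∈ IsLocalRing.maximalIdeal (X.presheaf.stalk z) ∧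
      b ∈ IsLocalRing.maximalIdeal (X.presheaf.stalk z) ∧ RingTheory.Sequence.IsWeaklyRegular (X.presheaf.stalk z) [a, b])
    {V : X.Opens} (hV : IsAffineOpen V) (hqc : IsCompact (V ⊓ U : Set X)) (s : Γ(X, V ⊓ U)) :
    ∃ σ : Γ(X, V), resO X (inf_le_left : V ⊓ U ≤ V) σ = s := by
  classical
  let ρ := resO X (inf_le_left : V ⊓ U ≤ V)
  have hreg : ∀ z : X, z ∉ U → ∃ a b : X.presheaf.stalk z, a ∈ IsLocalRing.maximalIdeal (X.presheaf.stalk z) ∧
      b ∈ IsLocalRing.maximalIdeal (X.presheaf.stalk z) ∧ IsSMulRegular (X.presheaf.stalk z) a ∧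
      ∀ x y : X.presheaf.stalk z, a * x = b * y → a ∣ y := by
    intro z hz
    obtain ⟨a, b, ha, hb, hab⟩ := hZ z hz
    rw [RingTheory.Sequence.isWeaklyRegular_cons_iff, RingTheory.Sequence.isWeaklyRegular_cons_iff] at hab
    refine ⟨a, b, ha, hb, hab.1, fun x y hxy => ?_⟩
    have h0 : b • (Submodule.Quotient.mk y : QuotSMulTop a (X.presheaf.stalk z)) = b • (0 : QuotSMulTop a (X.presheaf.stalk z)) := by
      rw [smul_zero, ← Submodule.Quotient.mk_smul, Submodule.Quotient.mk_eq_zero, Submodule.mem_smul_pointwise_iff_exists]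
      exact ⟨x, Submodule.mem_top, by simpa using hxy⟩
    have h2 := hab.2.1 h0
    rw [Submodule.Quotient.mk_eq_zero, Submodule.mem_smul_pointwise_iff_exists] at h2
    obtain ⟨w, -, hw⟩ := h2
    exact ⟨w, hw.symm⟩
  have hinj : ∀ x : Γ(X, V), ρ x = 0 → x = 0 := fun x hx => eq_zero_of_regular (fun z hz => by
    obtain ⟨a, -, ha, -, hr, -⟩ := hreg z hz; exact ⟨a, ha, hr⟩) x hx
  -- finitely many basic opens
  obtain ⟨T, hTle, hTcov⟩ : ∃ T : Finset Γ(X, V), (∀ f ∈ T, X.basicOpen f ≤ V ⊓ U) ∧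
      ∀ y ∈ V ⊓ U, ∃ f ∈ T, y ∈ X.basicOpen f := by
    have hch : ∀ y : (V ⊓ U : Set X), ∃ f : Γ(X, V), X.basicOpen f ≤ V ⊓ U ∧ (y : X) ∈ X.basicOpen f := fun y => by
      obtain ⟨f, hf, hy⟩ := hV.exists_basicOpen_le (V := V ⊓ U) ⟨(y : X), y.2⟩ y.2.1
      exact ⟨f, hf, hy⟩
    choose f hf hyf using hch
    obtain ⟨t, ht⟩ := hqc.elim_finite_subcover (fun y => (X.basicOpen (f y) : Set X)) (fun y => (X.basicOpen (f y)).2)
      fun y hy => Set.mem_iUnion.2 ⟨⟨y, hy⟩, hyf ⟨y, hy⟩⟩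
    refine ⟨t.image f, fun g hg => ?_, fun y hy => ?_⟩
    · obtain ⟨y, -, rfl⟩ := Finset.mem_image.1 hg
      exact hf y
    · obtain ⟨i, hi, hyi⟩ := Set.mem_iUnion₂.1 (ht hy)
      exact ⟨f i, Finset.mem_image_of_mem f hi, hyi⟩
  have hzero : ∀ q : Γ(X, V ⊓ U), (∀ f (hf : f ∈ T), resO X (hTle f hf) q = 0) → q = 0 := fun q hq =>
    SepFam.eq_zero_of_cover q fun y hy => by
      obtain ⟨f, hf, hyf⟩ := hTcov y hy
      exact ⟨_, hTle f hf, hyf, hq f hf⟩
  have hfrac : ∀ (q : Γ(X, V ⊓ U)) f (hf : f ∈ T), ∃ (n : ℕ) (ξ : Γ(X, V)),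
      resO X (X.basicOpen_le f) ξ = resO X (X.basicOpen_le f) f ^ n * resO X (hTle f hf) q := fun q f hf => by
    haveI := hV.isLocalization_basicOpen f
    obtain ⟨⟨ξ, ⟨_, n, rfl⟩⟩, hξ⟩ := IsLocalization.surj (Submonoid.powers f) (resO X (hTle f hf) q)
    refine ⟨n, ξ, ?_⟩
    rw [mul_comm, ← map_pow]
    exact hξ.symm
  have hu : ∀ f : Γ(X, V), IsUnit (resO X (X.basicOpen_le f) f) := fun f => RingedSpace.isUnit_res_basicOpen _ f
  -- the ideal of denominators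
  let D : Ideal Γ(X, V) :=
    { carrier := {b | ∃ σ, ρ σ = ρ b * s}
      zero_mem' := ⟨0, by simp⟩
      add_mem' := fun ⟨σ, hσ⟩ ⟨τ, hτ⟩ => ⟨σ + τ, by rw [map_add, map_add, hσ, hτ, add_mul]⟩
      smul_mem' := fun c _ ⟨σ, hσ⟩ => ⟨c * σ, by rw [smul_eq_mul, map_mul, map_mul, hσ, mul_assoc]⟩ }
  have hTD : ∀ f ∈ T, ∃ N : ℕ, f ^ N ∈ D := by
    intro f hf
    obtain ⟨n, ξ, hξ⟩ := hfrac s f hf
    let q : Γ(X, V ⊓ U) := ρ ξ - ρ (f ^ n) * s
    have hm : ∀ g (hg : g ∈ T), ∃ m : ℕ, resO X (hTle g hg) (ρ (f ^ m) * q) = 0 := by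
      intro g hg
      haveI := hV.isLocalization_basicOpen g
      have hW : IsAffineOpen (X.basicOpen g) := hV.basicOpen g
      let qg := resO X (hTle g hg) q
      let fg := resO X (X.basicOpen_le g) f
      have hle : X.basicOpen fg ≤ X.basicOpen f := by
        rw [show fg = X.presheaf.map (homOfLE (X.basicOpen_le g)).op f from rfl, Scheme.basicOpen_res]
        exact inf_le_right
      have h0 : resO X (X.basicOpen_le fg) qg = 0 := by
        have h1 : resO X (hTle f hf) q = 0 := by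
          rw [map_sub, map_mul, resO_resO (hTle f hf) (inf_le_left : V ⊓ U ≤ V), resO_resO (hTle f hf) (inf_le_left : V ⊓ U ≤ V),
            map_pow, hξ, sub_self]
        rw [resO_resO _ (hTle g hg), ← resO_resO hle (hTle f hf), h1, map_zero]
      obtain ⟨m, hm⟩ := (SepFam.resO_basicOpen_eq_zero_iff hW fg qg).1 h0
      refine ⟨m, ?_⟩
      rw [map_mul, resO_resO (hTle g hg) (inf_le_left : V ⊓ U ≤ V), map_pow]
      exact hm
    choose m hm using hm
    refine ⟨T.attach.sup (fun g => m g.1 g.2) + n, f ^ (T.attach.sup fun g => m g.1 g.2) * ξ, ?_⟩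
    rw [← sub_eq_zero]
    refine hzero _ fun g hg => ?_
    obtain ⟨k, hk⟩ := Nat.exists_eq_add_of_le (Finset.le_sup (f := fun g : T => m g.1 g.2) (Finset.mem_attach T ⟨g, hg⟩))
    rw [show ρ (f ^ (T.attach.sup fun g => m g.1 g.2) * ξ) - ρ (f ^ ((T.attach.sup fun g => m g.1 g.2) + n)) * s =
      ρ (f ^ k) * (ρ (f ^ m g hg) * q) by rw [hk]; simp only [q, map_mul, map_pow, pow_add]; ring,
      map_mul, hm g hg, mul_zero]
  suffices h : (1 : Γ(X, V)) ∈ D by
    obtain ⟨σ, hσ⟩ := h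
    exact ⟨σ, by rw [hσ, map_one, one_mul]⟩
  by_contra hne
  obtain ⟨Q₀, hQ₀, hDQ⟩ := Ideal.exists_le_maximal D (fun h => hne (h ▸ Submodule.mem_top))
  haveI := hQ₀.isPrime
  obtain ⟨Q, hQ, -⟩ := Ideal.exists_minimalPrimes_le hDQ
  haveI := hQ.1.1
  obtain ⟨hzV, hzQ⟩ := InjFibre.primeIdealOf_fromSpec hV ⟨Q, hQ.1.1⟩
  let z := hV.fromSpec ⟨Q, hQ.1.1⟩
  letI := TopCat.Presheaf.algebra_section_stalk X.presheaf (⟨z, hzV⟩ : V)
  let R := X.presheaf.stalk z
  haveI : IsLocalization.AtPrime R Q := by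
    have := hV.isLocalization_stalk ⟨z, hzV⟩
    rwa [hzQ] at this
  have hTQ : ∀ f ∈ T, f ∈ Q := fun f hf => by
    obtain ⟨N, hN⟩ := hTD f hf
    exact hQ.1.1.mem_of_pow_mem N (hQ.1.2 hN)
  have hzU : z ∉ U := fun hzU => by
    obtain ⟨f, hf, hzf⟩ := hTcov z ⟨hzV, hzU⟩
    have hnot := (WeakAssLib.mem_primeIdealOf hV hzV f).1
    rw [hzQ] at hnot
    exact hnot hzf (hTQ f hf)
  obtain ⟨a, b, ha, hb, hrega, hpair⟩ := hreg z hzU
  obtain ⟨n, hn⟩ := exists_pow_mem_map hQ R ha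
  obtain ⟨k, hk⟩ := exists_pow_mem_map hQ R hb
  obtain ⟨⟨⟨α, hα⟩, cα⟩, hα'⟩ := (IsLocalization.mem_map_algebraMap_iff Q.primeCompl R).1 hn
  obtain ⟨⟨⟨β, hβ⟩, cβ⟩, hβ'⟩ := (IsLocalization.mem_map_algebraMap_iff Q.primeCompl R).1 hk
  obtain ⟨xα, hxα⟩ := hα
  obtain ⟨xβ, hxβ⟩ := hβ
  have hrel : β * xα = α * xβ := sub_eq_zero.1 (hinj _ (by rw [map_sub, map_mul, map_mul, hxα, hxβ]; ring))
  have hrel' := congrArg (algebraMap Γ(X, V) R) hrel
  rw [map_mul, map_mul, ← hα', ← hβ'] at hrel'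
  obtain ⟨w, hw⟩ := dvd_of_pow_pair hrega hpair n k (algebraMap Γ(X, V) R cα * algebraMap Γ(X, V) R xβ)
    (algebraMap Γ(X, V) R cβ * algebraMap Γ(X, V) R xα) (by linear_combination -hrel')
  -- so `xα = α * y` in the local ring
  obtain ⟨y₀, c, hy⟩ := IsLocalization.exists_mk'_eq Q.primeCompl w
  have h3 : algebraMap Γ(X, V) R ((c : Γ(X, V)) * cβ * cα * xα) = algebraMap Γ(X, V) R (α * y₀) := by
    have hy' : w * algebraMap Γ(X, V) R c = algebraMap Γ(X, V) R y₀ := by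
      rw [← hy]; exact IsLocalization.mk'_spec R y₀ c
    simp only [map_mul]
    rw [← hy', ← hα']
    linear_combination (algebraMap Γ(X, V) R c * algebraMap Γ(X, V) R cα) * hw
  obtain ⟨c', hc'⟩ := (IsLocalization.eq_iff_exists Q.primeCompl R).1 h3
  let C₀ : Γ(X, V) := c' * c * cβ * cα
  let t : Γ(X, V ⊓ U) := ρ C₀ * s - ρ ((c' : Γ(X, V)) * y₀)
  have hαt : ρ α * t = 0 := by
    have h4 := congrArg ρ hc'
    simp only [map_mul] at h4
    simp only [t, C₀, map_mul]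
    linear_combination h4 - (ρ c' * ρ c * ρ cβ * ρ cα) * hxα
  have hαreg : IsSMulRegular R (algebraMap Γ(X, V) R α) := fun p q hpq => by
    refine (hrega.pow n) ((IsLocalization.map_units R cα).mul_left_cancel ?_)
    simp only [smul_eq_mul, ← hα'] at hpq ⊢
    linear_combination hpq
  have hkill : ∀ f (hf : f ∈ T), ∃ c : Γ(X, V), c ∉ Q ∧ resO X (hTle f hf) (ρ c * t) = 0 := by
    intro f hf
    obtain ⟨m, ξ, hξ⟩ := hfrac t f hf
    have h5 : resO X (X.basicOpen_le f) (α * ξ) = 0 := by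
      rw [map_mul, hξ, mul_left_comm, ← resO_resO (hTle f hf) (inf_le_left : V ⊓ U ≤ V) α, ← map_mul, hαt, map_zero, mul_zero]
    obtain ⟨l, hl⟩ := (SepFam.resO_basicOpen_eq_zero_iff hV f (α * ξ)).1 h5
    have h6 : algebraMap Γ(X, V) R (f ^ l * ξ) = 0 := hαreg.right_eq_zero_of_smul (by
      rw [smul_eq_mul, ← map_mul, show α * (f ^ l * ξ) = f ^ l * (α * ξ) by ring, hl, map_zero])
    obtain ⟨⟨c, hc⟩, hcξ⟩ := (IsLocalization.map_eq_zero_iff Q.primeCompl R _).1 h6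
    refine ⟨c, hc, ?_⟩
    have h7 := congrArg (resO X (X.basicOpen_le f)) hcξ
    simp only [map_mul, map_pow, map_zero, hξ] at h7
    rw [map_mul, resO_resO (hTle f hf) (inf_le_left : V ⊓ U ≤ V)]
    refine (((hu f).pow l).mul ((hu f).pow m)).mul_right_eq_zero.1 ?_
    linear_combination h7
  choose e he he0 using hkill
  let E : Γ(X, V) := ∏ f ∈ T.attach, e f.1 f.2
  have hEt : ρ E * t = 0 := hzero _ fun f hf => by
    obtain ⟨E', hE'⟩ : e f hf ∣ E := Finset.dvd_prod_of_mem (fun f : T => e f.1 f.2) (Finset.mem_attach T ⟨f, hf⟩)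
    rw [hE', show ρ (e f hf * E') * t = ρ E' * (ρ (e f hf) * t) by rw [map_mul]; ring, map_mul, he0 f hf, mul_zero]
  have hmem : E * C₀ ∈ D := ⟨E * c' * y₀, by
    simp only [t, map_mul] at hEt ⊢
    linear_combination -hEt⟩
  have hC : E * C₀ ∈ Q.primeCompl :=
    Q.primeCompl.mul_mem (Submonoid.prod_mem _ fun f _ => he f.1 f.2)
      (Q.primeCompl.mul_mem (Q.primeCompl.mul_mem (Q.primeCompl.mul_mem c'.2 c.2) cβ.2) cα.2)
  exact hC (hQ.1.2 hmem)

end Groth.Agent.SectExtU
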